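import Groth.Agent.Deform.PseudoRed.Apps
import Groth.Agent.Deform.Luna.CharRad
import Groth.Agent.Deform.Luna.MaxTorusFactor
import Groth.Agent.Deform.Luna.Radical
import Groth.Agent.GrpSchLib.HomClosedRange

/-!
# The unipotent radical of the identity component is the unipotent radical of the group
-/

set_option autoImplicit false
set_option linter.style.haveILetI false
set_option linter.unusedSectionVars false
set_option maxHeartbeats 1000000

universe u

open CategoryTheory CategoryTheory.Limits MonoidalCategory CartesianMonoidalCategory MonObj AlgebraicGeometry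

attribute [local instance] CategoryTheory.Hom.monoid CategoryTheory.Hom.group

noncomputable section

namespace Groth.Agent.Deform.NeutralRad

open FrobDesc (yK)
open Chev (Pt pimg)
open GenSub Luna.SolvLocus Luna.SolvPts

section Lift

variable {k : Type u} [Field k]

/-- An open subgroup is closed. -/
theorem isClosedImmersion_open {G G₀ : Over (Spec (CommRingCat.of k))} [GrpObj G] [GrpObj G₀]
    [LocallyOfFiniteType G.hom] (j : G₀ ⟶ G) [IsMonHom j] [IsOpenImmersion j.left] : IsClosedImmersion j.left := by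
  haveI : IsLocallyNoetherian G.left := LocallyOfFiniteType.isLocallyNoetherian G.hom
  haveI : LocallyOfFiniteType G₀.hom := by rw [← Over.w j]; infer_instance
  haveI : QuasiCompact j.left := inferInstance
  exact IsClosedImmersion.of_isPreimmersion j.left (GrpSchLib.HomClosedRange.isClosed_range j)

/-- A connected family through the unit stays in an open subgroup. -/
theorem exists_lift_open {G G₀ X : Over (Spec (CommRingCat.of k))} [GrpObj G] [GrpObj G₀] (j : G₀ ⟶ G) [IsMonHom j]
    [IsOpenImmersion j.left] [IsClosedImmersion j.left] [ConnectedSpace X.left] (f : X ⟶ G)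
    (x₀ : 𝟙_ (Over (Spec (CommRingCat.of k))) ⟶ X) (hx₀ : x₀ ≫ f = 1) : ∃ f' : X ⟶ G₀, f' ≫ j = f := by
  have hcl : IsClopen (f.left ⁻¹' Set.range j.left) :=
    ⟨j.left.isClosedEmbedding.isClosed_range.preimage f.left.continuous,
      j.left.isOpenEmbedding.isOpen_range.preimage f.left.continuous⟩
  have hne : (f.left ⁻¹' Set.range j.left).Nonempty := by
    refine ⟨x₀.left (IsLocalRing.closedPoint k), (1 : 𝟙_ (Over (Spec (CommRingCat.of k))) ⟶ G₀).left (IsLocalRing.closedPoint k), ?_⟩
    rw [← Scheme.Hom.comp_apply, ← Scheme.Hom.comp_apply, ← Over.comp_left, ← Over.comp_left, hx₀, MonObj.one_comp]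
  refine ⟨Over.homMk (IsOpenImmersion.lift j.left f.left (by
    rintro _ ⟨x, rfl⟩
    exact (Set.ext_iff.mp (hcl.eq_univ hne) x).mpr (Set.mem_univ _))) (by
      rw [← Over.w j, ← Category.assoc, IsOpenImmersion.lift_fac, Over.w f]), ?_⟩
  exact Over.OverMorphism.ext (IsOpenImmersion.lift_fac _ _ _)

end Lift

section Closed

variable {K : Type u} [Field K] [IsAlgClosed K]

/-- **All conjugates of a normal subgroup without tori of the identity component lie in one subgroup without tori.** -/
theorem exists_conj_le {G N V : Over (Spec (CommRingCat.of K))} [GrpObj G] [GrpObj N] [GrpObj V] (j : N ⟶ G)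
    [IsMonHom j] [IsOpenImmersion j.left] [IsClosedImmersion j.left] [IsAffine N.left] [Smooth N.hom]
    [ConnectedSpace N.left] (v : V ⟶ N) [IsMonHom v] [IsAffine V.left] [Smooth V.hom] [ConnectedSpace V.left]
    (hn : AlgGrp.IsNormalHom v) (hV : Red.HasNoSubtorus K V) :
    ∃ (W : Over (Spec (CommRingCat.of K))) (_ : GrpObj W) (w : W ⟶ N), IsMonHom w ∧ IsClosedImmersion w.left ∧
      Red.HasNoSubtorus K W ∧ ∀ (g : Pt G) (x : Pt V), ∃ y : Pt W, y ≫ w ≫ j = g * (x ≫ v ≫ j) * g⁻¹ := by
  haveI : Mono j := (Over.forget _).mono_of_mono_map (inferInstanceAs (Mono j.left))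
  obtain ⟨W, gW, w, hwm, hwc, -, -, -, hW, -, huniv⟩ := Luna.exists_Ru_char N
  refine ⟨W, gW, w, hwm, hwc, hW, fun g x => ?_⟩
  let c : ∀ {X : Over (Spec (CommRingCat.of K))} (h : Pt G), (X ⟶ G) → (X ⟶ G) := fun {X} h f =>
    (toUnit X ≫ h) * f * (toUnit X ≫ h)⁻¹
  have hc : ∀ {X : Over (Spec (CommRingCat.of K))} (h : Pt G) (f : X ⟶ G) (z : Pt X),
      z ≫ c h f = h * (z ≫ f) * h⁻¹ := fun h f z => by
    simp only [c, MonObj.comp_mul, GrpObj.comp_inv]
    rw [← Category.assoc, show z ≫ toUnit _ = 𝟙 _ from toUnit_unique _ _, Category.id_comp]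
  obtain ⟨f, hf⟩ := exists_lift_open j (c g (v ≫ j)) (1 : Pt V) (by
    rw [hc, MonObj.one_comp, _root_.mul_one, mul_inv_cancel])
  obtain ⟨d, hd⟩ := exists_lift_open j (c g⁻¹ j) (1 : Pt N) (by
    rw [hc, MonObj.one_comp, _root_.mul_one, mul_inv_cancel])
  haveI : IsMonHom f := by
    refine WittEndoLib.isMonHom_of_mul f fun {X} a b => ?_
    rw [← cancel_mono j, MonObj.mul_comp (f₁ := a ≫ f) (f₂ := b ≫ f)]
    simp only [Category.assoc, hf, c, MonObj.comp_mul, GrpObj.comp_inv]
    rw [← Category.assoc (a * b) (toUnit V), ← Category.assoc a (toUnit V), ← Category.assoc b (toUnit V),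
      show (a * b) ≫ toUnit V = toUnit X from toUnit_unique _ _, show a ≫ toUnit V = toUnit X from toUnit_unique _ _,
      show b ≫ toUnit V = toUnit X from toUnit_unique _ _, ← Category.assoc (a * b), ← Category.assoc a, ← Category.assoc b,
      MonObj.mul_comp, MonObj.mul_comp, conj_mul]
  obtain ⟨f', hf'⟩ := huniv V f hV fun n z => by
    obtain ⟨z', hz'⟩ := hn _ (n ≫ d) z
    refine ⟨z', ?_⟩
    rw [← cancel_mono j, Category.assoc, hf, hc, MonObj.mul_comp, MonObj.mul_comp, GrpObj.inv_comp, Category.assoc,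
      hf, hc]
    have h := congrArg (· ≫ j) hz'
    simp only [MonObj.mul_comp, GrpObj.inv_comp, Category.assoc, hd, hc, _root_.inv_inv] at h
    rw [← Category.assoc z' v j] at h ⊢
    rw [← h]
    group
  refine ⟨x ≫ f', ?_⟩
  rw [Category.assoc, ← Category.assoc f' w j, hf', hf, hc]

end Closed

variable {k : Type u} [Field k] (K : Type u) [Field K] [IsAlgClosed K] [Algebra k K]

include K in
/-- **The subgroup generated by the conjugates of a normal subgroup without tori of the identity component.** -/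
theorem exists_gen {G G₀ U : Over (Spec (CommRingCat.of k))} [GrpObj G] [GrpObj G₀] [GrpObj U] [IsAffine G.left]
    [Smooth G.hom] (j : G₀ ⟶ G) [IsMonHom j] [IsOpenImmersion j.left] [ConnectedSpace G₀.left] (u : U ⟶ G₀) [IsMonHom u]
    [IsClosedImmersion u.left] [Smooth U.hom] [ConnectedSpace U.left] (hn : AlgGrp.IsNormalHom u)
    (hU : Red.HasNoSubtorus K (Red.bc (yK k K) U)) :
    ∃ (I : Over (Spec (CommRingCat.of k))) (_ : GrpObj I) (i : I ⟶ G₀), IsMonHom i ∧ IsClosedImmersion i.left ∧
      Smooth I.hom ∧ QuasiCompact I.hom ∧ ConnectedSpace I.left ∧ Red.HasNoSubtorus K (Red.bc (yK k K) I) ∧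
      AlgGrp.IsNormalHom (i ≫ j) ∧ ∃ t : U ⟶ I, t ≫ i ≫ j = u ≫ j := by
  let σ := yK k K
  let F := Over.pullback σ
  haveI := isClosedImmersion_open j
  haveI : Mono j := (Over.forget _).mono_of_mono_map (inferInstanceAs (Mono j.left))
  haveI : IsAffine G₀.left := isAffine_of_isAffineHom j.left
  haveI : IsAffine U.left := isAffine_of_isAffineHom u.left
  haveI : Smooth G₀.hom := by rw [← Over.w j]; infer_instance
  haveI : IsAffineHom G.hom := isAffineHom_of_isAffine _
  haveI : IsAffineHom G₀.hom := isAffineHom_of_isAffine _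
  haveI : IsAffineHom U.hom := isAffineHom_of_isAffine _
  haveI : Smooth (G ⊗ U).hom := inferInstanceAs (Smooth (pullback.fst G.hom U.hom ≫ G.hom))
  haveI : QuasiCompact (G ⊗ U).hom := inferInstanceAs (QuasiCompact (pullback.fst G.hom U.hom ≫ G.hom))
  haveI : GeometricallyReduced (G ⊗ U).hom := H23.RigidGamma.geometricallyReduced_of_smooth _
  haveI : Smooth (Red.bc σ G).hom := inferInstanceAs (Smooth (pullback.snd G.hom σ))
  haveI : Smooth (Red.bc σ G₀).hom := inferInstanceAs (Smooth (pullback.snd G₀.hom σ))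
  haveI : Smooth (Red.bc σ U).hom := inferInstanceAs (Smooth (pullback.snd U.hom σ))
  haveI : QuasiCompact (Red.bc σ U).hom := inferInstanceAs (QuasiCompact (pullback.snd U.hom σ))
  haveI : IsAffine (Red.bc σ G₀).left := inferInstanceAs (IsAffine (pullback G₀.hom σ))
  haveI : IsAffine (Red.bc σ U).left := inferInstanceAs (IsAffine (pullback U.hom σ))
  haveI : ConnectedSpace (Red.bc σ G₀).left := GrpSchLib.AntiAffine.connectedSpace_bc G₀ (algebraMap k K)
  haveI : ConnectedSpace (Red.bc σ U).left := GrpSchLib.AntiAffine.connectedSpace_bc U (algebraMap k K)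
  haveI : IsOpenImmersion (F.map j).left :=
    MorphismProperty.of_isPullback (P := @IsOpenImmersion) (GrpSchLib.HomSplitLocal.isPullback_map j σ) inferInstance
  haveI : IsClosedImmersion (F.map j).left :=
    MorphismProperty.of_isPullback (P := @IsClosedImmersion) (GrpSchLib.HomSplitLocal.isPullback_map j σ) inferInstance
  haveI : Mono (F.map j) := (Over.forget _).mono_of_mono_map (inferInstanceAs (Mono (F.map j).left))
  obtain ⟨W, gW, w, hwm, hwc, hW, hconj⟩ :=
    exists_conj_le (F.map j) (F.map u) (PseudoRed.normal_bc' σ u hn) hU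
  haveI := hwm; haveI := hwc
  -- the family
  let φ : G ⊗ U ⟶ G := fst G U * (snd G U ≫ u ≫ j) * (fst G U)⁻¹
  let e := ptsEquiv (G := G) σ (𝟙_ (Over (Spec (CommRingCat.of K))))
  have hnat : ∀ {C : Over (Spec (CommRingCat.of k))} (c : C ⟶ G),
      e '' (Set.range fun x : geomT σ ⟶ C => x ≫ c) = Set.range fun y : Pt (Red.bc σ C) => y ≫ F.map c := by
    intro C c
    rw [← Set.range_comp]
    ext g
    constructor
    · rintro ⟨x, rfl⟩
      exact ⟨_, ((Over.mapPullbackAdj σ).homEquiv_naturality_right x c).symm⟩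
    · rintro ⟨y, rfl⟩
      obtain ⟨x, rfl⟩ := ((Over.mapPullbackAdj σ).homEquiv _ C).surjective y
      exact ⟨x, (Over.mapPullbackAdj σ).homEquiv_naturality_right x c⟩
  set S : Set (geomT σ ⟶ G) := Set.range fun x : geomT σ ⟶ G ⊗ U => x ≫ φ with hS
  let P : Pt (Red.bc σ G) → Set (Pt (Red.bc σ G)) := fun g =>
    Set.range fun x : Pt (Red.bc σ U) => g * (x ≫ F.map u ≫ F.map j) * g⁻¹
  have hSK : e '' S = ⋃ g, P g := by
    rw [hS, hnat φ]
    have hval : ∀ y : Pt (Red.bc σ (G ⊗ U)), y ≫ F.map φ =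
        (y ≫ F.map (fst G U)) * ((y ≫ F.map (snd G U)) ≫ F.map u ≫ F.map j) * (y ≫ F.map (fst G U))⁻¹ := fun y => by
      simp only [φ, F, Functor.map_mul, Functor.map_comp, Functor.map_inv', MonObj.comp_mul, GrpObj.comp_inv,
        Category.assoc]
    ext h
    constructor
    · rintro ⟨y, rfl⟩
      exact Set.mem_iUnion.mpr ⟨y ≫ F.map (fst G U), y ≫ F.map (snd G U), (hval y).symm⟩
    · intro h'
      obtain ⟨g, x, rfl⟩ := Set.mem_iUnion.mp h'
      obtain ⟨g', rfl⟩ := e.surjective g
      obtain ⟨x', rfl⟩ := ((Over.mapPullbackAdj σ).homEquiv _ U).surjective x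
      refine ⟨(Over.mapPullbackAdj σ).homEquiv _ _ (lift g' x'), ?_⟩
      refine (hval _).trans ?_
      rw [← (Over.mapPullbackAdj σ).homEquiv_naturality_right, ← (Over.mapPullbackAdj σ).homEquiv_naturality_right,
        lift_fst, lift_snd]
      rfl
  -- the pieces
  haveI : LocallyOfFiniteType (Red.bc σ G).hom := inferInstanceAs (LocallyOfFiniteType (pullback.snd G.hom σ))
  letI := ptTop (Red.bc σ G)
  letI := ptTop (Red.bc σ U)
  obtain ⟨NU, -, -, hUi, -, -, hUtop⟩ := exists_neutral_img (Red.bc σ U)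
  have hT := hUtop inferInstance
  subst hT
  have himg : ∀ g, P g = Set.range fun x : Pt (Red.bc σ U) =>
      x ≫ ((toUnit _ ≫ g) * (F.map u ≫ F.map j) * (toUnit _ ≫ g)⁻¹) := fun g => by
    refine congrArg Set.range (funext fun x => ?_)
    rw [MonObj.comp_mul, MonObj.comp_mul, GrpObj.comp_inv, ← Category.assoc x (toUnit _),
      show x ≫ toUnit _ = 𝟙 _ from toUnit_unique _ _, Category.id_comp]
  obtain ⟨L, hL, hirr⟩ := bounded_of_pieces (C := e '' S) P (fun g => himg g ▸ IsImg.range _)
    (fun g => by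
      rw [himg g, ← Set.image_univ]
      exact (Subgroup.coe_top (G := Pt (Red.bc σ U)) ▸ hUi).image _ (continuous_pt_comp _).continuousOn)
    (fun g => ⟨1, by show g * _ * g⁻¹ = 1; rw [MonObj.one_comp, _root_.mul_one, mul_inv_cancel]⟩)
    (fun g => hSK ▸ Set.subset_iUnion P g)
  rw [← hSK] at hL hirr
  obtain ⟨I, iI, i, hi, hic, hIs, hIq, ⟨φ', hφ'⟩, -, hpts, -⟩ :=
    exists_generated σ φ (bounded_of_mulEquiv e ⟨L.length, fun g hg => ⟨L, le_rfl, hL hg⟩⟩)
  haveI := hi; haveI := hic; haveI := hIs; haveI := hIq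
  haveI : Mono i := (Over.forget _).mono_of_mono_map (inferInstanceAs (Mono i.left))
  haveI : IsAffine I.left := isAffine_of_isAffineHom i.left
  have hHmap : (e '' (Subgroup.closure S : Set (geomT σ ⟶ G))) = (Subgroup.closure (e '' S) : Set (Pt (Red.bc σ G))) := by
    rw [show (e '' _ : Set (Pt (Red.bc σ G))) = e.toMonoidHom '' _ from rfl, ← Subgroup.coe_map,
      MonoidHom.map_closure]
    rfl
  haveI : IrreducibleSpace I.left := irreducibleSpace_of_pts σ i _ hpts (hHmap ▸ hirr)
  haveI : ConnectedSpace I.left := inferInstance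
  obtain ⟨i₀, hi₀⟩ := exists_lift_open j i (1 : 𝟙_ (Over (Spec (CommRingCat.of k))) ⟶ I) (MonObj.one_comp i)
  haveI : IsMonHom i₀ := Deform.isMonHom_of_comp i₀ j (i := i) hi₀
  haveI : IsClosedImmersion i₀.left := by
    haveI : IsClosedImmersion (i₀.left ≫ j.left) := by rw [← Over.comp_left, hi₀]; infer_instance
    exact IsClosedImmersion.of_comp i₀.left j.left
  -- points of the generated subgroup
  have hIK : (Set.range fun y : Pt (Red.bc σ I) => y ≫ F.map i) =
      (Subgroup.closure (e '' S) : Set (Pt (Red.bc σ G))) := by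
    rw [← hnat i, hpts, hHmap]
  haveI : IsAffine (Red.bc σ I).left := inferInstanceAs (IsAffine (pullback I.hom σ))
  haveI : Smooth (Red.bc σ I).hom := inferInstanceAs (Smooth (pullback.snd I.hom σ))
  haveI : QuasiCompact (Red.bc σ I).hom := inferInstanceAs (QuasiCompact (pullback.snd I.hom σ))
  haveI : IsClosedImmersion (F.map i₀).left :=
    MorphismProperty.of_isPullback (P := @IsClosedImmersion) (GrpSchLib.HomSplitLocal.isPullback_map i₀ σ) inferInstance
  haveI : Mono (F.map i₀) := (Over.forget _).mono_of_mono_map (inferInstanceAs (Mono (F.map i₀).left))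
  refine ⟨I, iI, i₀, inferInstance, inferInstance, inferInstance, inferInstance, inferInstance, ?_, ?_, ?_⟩
  · have hle : Subgroup.closure (e '' S) ≤ (Subgroup.closure (Set.range fun y : Pt W => y ≫ w ≫ F.map j)) := by
      rw [Subgroup.closure_le, hSK]
      refine Set.iUnion_subset fun g => ?_
      rintro _ ⟨x, rfl⟩
      exact Subgroup.subset_closure (hconj g x)
    haveI : IsReduced (Red.bc σ I).left := GrpSchLib.isReduced_of_smooth_field (Red.bc σ I).hom
    have hcl : ∀ z ∈ Subgroup.closure (Set.range fun y : Pt W => y ≫ w ≫ F.map j), ∃ y : Pt W, y ≫ w ≫ F.map j = z := by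
      intro z hz
      induction hz using Subgroup.closure_induction with
      | mem z hz => exact hz
      | one => exact ⟨1, MonObj.one_comp _⟩
      | mul a b _ _ ha hb =>
        obtain ⟨y, rfl⟩ := ha; obtain ⟨y', rfl⟩ := hb
        exact ⟨y * y', MonObj.mul_comp _ _ _⟩
      | inv a _ ha =>
        obtain ⟨y, rfl⟩ := ha
        exact ⟨y⁻¹, GrpObj.inv_comp _ _⟩
    obtain ⟨t, ht⟩ := Chev.exists_lift_range w (F.map i₀)
      (Chev.mem_of_pts _ w.left.isClosedEmbedding.isClosed_range fun y => by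
        obtain ⟨z, hz⟩ := hcl _ (hle ((Set.ext_iff.mp hIK (y ≫ F.map i)).mp ⟨y, rfl⟩))
        refine ⟨pimg z, ?_⟩
        rw [← Chev.pimg_comp, ← cancel_mono (F.map j) |>.mp
          (show (z ≫ w) ≫ F.map j = (y ≫ F.map i₀) ≫ F.map j by
            rw [Category.assoc, hz, Category.assoc, ← F.map_comp, hi₀])])
    haveI : Mono w := (Over.forget _).mono_of_mono_map (inferInstanceAs (Mono w.left))
    haveI : Mono t := by
      haveI : Mono (t ≫ w) := by rw [ht]; infer_instance
      exact mono_of_mono t w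
    haveI : IsMonHom t := Deform.isMonHom_of_comp t w (i := F.map i₀) ht
    exact Luna.hasNoSubtorus_of_mono t hW
  · rw [hi₀]
    refine PseudoRed.isNormalHom_of_geomPts (K := K) i fun g y => ?_
    have h1 : ∀ z ∈ Subgroup.closure (e '' S), g * z * g⁻¹ ∈ Subgroup.closure (e '' S) := fun z hz => by
      induction hz using Subgroup.closure_induction with
      | mem z hz =>
        rw [hSK] at hz ⊢
        obtain ⟨g', x, rfl⟩ := Set.mem_iUnion.mp hz
        exact Subgroup.subset_closure (Set.mem_iUnion.mpr ⟨g * g', x, by group⟩)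
      | one => simp
      | mul a b _ _ ha hb =>
        have := mul_mem ha hb
        rwa [show g * a * g⁻¹ * (g * b * g⁻¹) = g * (a * b) * g⁻¹ by group] at this
      | inv a _ ha =>
        have := inv_mem ha
        rwa [show (g * a * g⁻¹)⁻¹ = g * a⁻¹ * g⁻¹ by group] at this
    exact (Set.ext_iff.mp hIK _).mpr (h1 _ ((Set.ext_iff.mp hIK _).mp ⟨y, rfl⟩))
  · refine ⟨lift 1 (𝟙 U) ≫ φ', ?_⟩
    rw [hi₀, Category.assoc, hφ']
    simp only [φ, MonObj.comp_mul, GrpObj.comp_inv, lift_fst, lift_snd_assoc, _root_.one_mul, inv_one, _root_.mul_one,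
      Category.id_comp]

end Groth.Agent.Deform.NeutralRad
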